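import Mathlib
import Cfsg.Prelude.Def_ChevE8
import Cfsg.Agent.ChevalleyStructure.JacAll
import Cfsg.Agent.GpExc.Field
import Cfsg.Agent.H942.E8Tab
import Cfsg.Agent.H952.F4.Defs2

/-!
# S5772, S5930: common definitions (helper13)

* `G8 F`, `L8 F`, `act`, `LK` : the group of type `E₈` and its adjoint module; `br` : the bracket;
* `em f`, `mp f` : change of the field; `Kb F`, `emb0`, `mp0`, `frq` : the algebraic closure, the `q`-Frobenius map;
* `rv r v` : the value of the root `r` at the toral part of `v`; the roots `120, …, 239` are the positive ones;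
* `InB`, `InN`, `InT`, `tp`, `Jor` : Borel subalgebra, its nilradical, the Cartan subalgebra, the toral part, Jordan form;
* `stab v` : the stabilizer of a vector, `stabS W` : of a subspace.
-/

set_option autoImplicit false

namespace Cfsg.Agent.E8A

open Cfsg Cfsg.Lie Module Matrix
open Cfsg.Agent.ChevalleyStructure.LieAut Cfsg.Agent.ChevalleyStructure.LieAbs
open Cfsg.Agent.H952.F4 (matRep)
open Cfsg.Agent.H942.E8Tab (e8T)

universe u v

/-- the group -/
abbrev G8 (F : Type u) [Field F] : Type u := ↥(chevE8.group F)

/-- the adjoint module -/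
abbrev L8 (F : Type u) : Type u := chevE8.Idx → F

section

variable {F : Type u} [Field F] {K : Type v} [Field K]

/-- the matrix of an element -/
abbrev mx (g : G8 F) : Matrix chevE8.Idx chevE8.Idx F := ((g : GL chevE8.Idx F) : Matrix chevE8.Idx chevE8.Idx F)

/-- the action -/
def act (g : G8 F) (v : L8 F) : L8 F := mx g *ᵥ v

/-- the adjoint representation -/
noncomputable def LK (F : Type u) [Field F] : Representation F (G8 F) (L8 F) := matRep (chevE8.group F)

set_option maxRecDepth 20000 in
theorem LK_apply (g : G8 F) (v : L8 F) : LK F g v = act g v := rfl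

theorem act_one (v : L8 F) : act 1 v = v := by
  rw [← LK_apply, map_one]; rfl

theorem act_mul (g h : G8 F) (v : L8 F) : act (g * h) v = act g (act h v) := by
  rw [← LK_apply, map_mul]; rfl

theorem act_inv (g : G8 F) (v : L8 F) : act g⁻¹ (act g v) = v := by rw [← act_mul, inv_mul_cancel, act_one]

theorem act_inv' (g : G8 F) (v : L8 F) : act g (act g⁻¹ v) = v := by rw [← act_mul, mul_inv_cancel, act_one]

theorem act_add (g : G8 F) (v w : L8 F) : act g (v + w) = act g v + act g w := Matrix.mulVec_add _ _ _

theorem act_smul (g : G8 F) (c : F) (v : L8 F) : act g (c • v) = c • act g v := Matrix.mulVec_smul _ _ _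

theorem act_zero (g : G8 F) : act g 0 = 0 := Matrix.mulVec_zero _

theorem act_neg (g : G8 F) (v : L8 F) : act g (-v) = -act g v := Matrix.mulVec_neg _ _

/-- the matrix of `ad x` -/
noncomputable def adm (x : L8 F) : Matrix chevE8.Idx chevE8.Idx F := adv (adR chevE8 F) x

/-- the bracket -/
noncomputable def br (x y : L8 F) : L8 F := adm x *ᵥ y

/-- change of the field, on the group -/
noncomputable def em (f : F →+* K) : G8 F →* G8 K := Cfsg.Agent.GpExc.Field.emb e8T.inList f

/-- change of the field, on the module -/
def mp (f : F →+* K) (v : L8 F) : L8 K := fun i => f (v i)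

/-- the value of the root `r` at the toral part of `v` -/
def rv (r : Fin chevE8.nroots) (v : L8 F) : F :=
  ∑ i : Fin chevE8.rank, (((chevE8.cartanSR.getD i.val #[]).getD r.val 0 : ℤ) : F) * v (Sum.inl i)

/-- the Borel subalgebra -/
def InB (v : L8 F) : Prop := ∀ r : Fin chevE8.nroots, r.val < 120 → v (Sum.inr r) = 0

/-- its nilradical -/
def InN (v : L8 F) : Prop := InB v ∧ ∀ i : Fin chevE8.rank, v (Sum.inl i) = 0

/-- the Cartan subalgebra -/
def InT (v : L8 F) : Prop := ∀ r : Fin chevE8.nroots, v (Sum.inr r) = 0

/-- the toral part -/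
def tp (v : L8 F) : L8 F := Sum.elim (fun i => v (Sum.inl i)) (fun _ => 0)

/-- Jordan form: the root vectors which occur commute with the toral part -/
def Jor (v : L8 F) : Prop := InB v ∧ ∀ r : Fin chevE8.nroots, v (Sum.inr r) ≠ 0 → rv r v = 0

/-- the stabilizer of a vector -/
def stab (v : L8 F) : Subgroup (G8 F) where
  carrier := {g | act g v = v}
  one_mem' := act_one v
  mul_mem' := fun {a b} ha hb => by
    show act (a * b) v = v
    rw [act_mul, show act b v = v from hb, show act a v = v from ha]
  inv_mem' := fun {a} ha => by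
    show act a⁻¹ v = v
    conv_lhs => rw [← show act a v = v from ha]
    exact act_inv a v

theorem mem_stab {v : L8 F} {g : G8 F} : g ∈ stab v ↔ act g v = v := Iff.rfl

end

/-- the algebraic closure -/
abbrev Kb (F : Type u) [Field F] : Type u := AlgebraicClosure F

section

variable {F : Type u} [Field F]

/-- the embedding of the group in the algebraic group -/
noncomputable def emb0 : G8 F →* G8 (Kb F) := em (algebraMap F (Kb F))

/-- the embedding of the module -/
noncomputable def mp0 (v : L8 F) : L8 (Kb F) := mp (algebraMap F (Kb F)) v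

/-- the `q`-Frobenius map on the module over the algebraic closure -/
noncomputable def frq (v : L8 (Kb F)) : L8 (Kb F) := fun i => v i ^ Nat.card F

end

end Cfsg.Agent.E8A
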